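import Mathlib
import Groth.Agent.Unibranch.Noether

/-!
Noether normalisation with substitutions by `N`-th powers, uniform in finitely many fibres.
-/

set_option autoImplicit false
set_option linter.style.haveILetI false
universe u

open scoped TensorProduct

namespace Groth.Agent.RelNoether.Powers

section Field

variable {k S : Type u} [Field k] [CommRing S] [Algebra k S] {n : ℕ}

/-- The exponents of the substitution. -/
def expo (N B : ℕ) (i : Fin n) : ℕ := N * B ^ ((i : ℕ) + 1)

/-- The weighted degree after substitution. -/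
def wdeg (N B : ℕ) (v : Fin (n + 1) → ℕ) : ℕ := v (Fin.last n) + ∑ i, expo N B i * v i.castSucc

theorem wdeg_inj {N B : ℕ} (hN : 1 ≤ N) {v w : Fin (n + 1) → ℕ} (hv : ∀ i, v i < B) (hw : ∀ i, w i < B)
    (h : wdeg N B v = wdeg N B w) : v = w := by
  have hsplit : ∀ v : Fin (n + 1) → ℕ,
      ∑ i, expo N B i * v i.castSucc = (N * B) * ∑ i : Fin n, v i.castSucc * B ^ (i : ℕ) := fun v => by
    rw [Finset.mul_sum]
    exact Finset.sum_congr rfl fun i _ => by rw [expo, pow_succ]; ring
  rw [wdeg, wdeg, hsplit, hsplit] at h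
  have hNB : ∀ v : Fin (n + 1) → ℕ, (∀ i, v i < B) → v (Fin.last n) < N * B := fun v hv =>
    lt_of_lt_of_le (hv _) (Nat.le_mul_of_pos_left B hN)
  have h0 : v (Fin.last n) = w (Fin.last n) := by
    have := congrArg (· % (N * B)) h
    simpa [Nat.add_mul_mod_self_left, Nat.mod_eq_of_lt (hNB v hv), Nat.mod_eq_of_lt (hNB w hw)] using this
  rw [h0, Nat.add_left_cancel_iff] at h
  have h1 := mul_left_cancel₀ (by have := hNB v hv; omega) h
  have h2 : (finFunctionFinEquiv fun i : Fin n => (⟨v i.castSucc, hv _⟩ : Fin B)) =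
      finFunctionFinEquiv fun i : Fin n => (⟨w i.castSucc, hw _⟩ : Fin B) := Fin.ext (by
    rw [finFunctionFinEquiv_apply, finFunctionFinEquiv_apply]
    exact h1)
  funext i
  induction i using Fin.lastCases with
  | last => exact h0
  | cast i => exact congrArg Fin.val (congrFun (finFunctionFinEquiv.injective h2) i)

open MvPolynomial in
/-- Substitution into polynomials in the distinguished variable. -/
noncomputable def subst (N B : ℕ) : MvPolynomial (Fin (n + 1)) k →ₐ[k] Polynomial (MvPolynomial (Fin n) k) :=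
  aeval (Fin.lastCases Polynomial.X fun i => Polynomial.C (X i) + Polynomial.X ^ expo N B i)

open MvPolynomial in
theorem subst_monomial (N B : ℕ) (hN : 1 ≤ N) (hB : 1 ≤ B) (v : Fin (n + 1) →₀ ℕ) (c : k) :
    ∃ M : Polynomial (MvPolynomial (Fin n) k), M.Monic ∧ M.natDegree = wdeg N B v ∧
      subst N B (monomial v c) = Polynomial.C (C c) * M := by
  have hm : ∀ i : Fin n, (Polynomial.C (X (R := k) i) + Polynomial.X ^ expo N B i).Monic := fun i => by
    rw [add_comm]
    exact Polynomial.monic_X_pow_add_C _ (Nat.mul_pos hN (pow_pos hB _)).ne'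
  refine ⟨Polynomial.X ^ v (Fin.last n) * ∏ i : Fin n,
    (Polynomial.C (X (R := k) i) + Polynomial.X ^ expo N B i) ^ v i.castSucc, ?_, ?_, ?_⟩
  · exact (Polynomial.monic_X_pow _).mul (Polynomial.monic_prod_of_monic _ _ fun i _ => (hm i).pow _)
  · rw [(Polynomial.monic_X_pow _).natDegree_mul (Polynomial.monic_prod_of_monic _ _ fun i _ => (hm i).pow _),
      Polynomial.natDegree_X_pow, Polynomial.natDegree_prod_of_monic _ _ fun i _ => (hm i).pow _, wdeg]
    refine congrArg _ (Finset.sum_congr rfl fun i _ => ?_)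
    rw [(hm i).natDegree_pow, add_comm (Polynomial.C _), Polynomial.natDegree_X_pow_add_C, mul_comm]
  · rw [subst, aeval_monomial, Finsupp.prod_fintype _ _ (fun i => pow_zero _), Fin.prod_univ_castSucc]
    simp only [Fin.lastCases_castSucc, Fin.lastCases_last]
    rw [mul_comm (Polynomial.X ^ v (Fin.last n))]
    rfl

open MvPolynomial in
/-- Elimination of the last generator. -/
theorem finite_elim (u : Fin (n + 1) → S) (hu : (aeval u : MvPolynomial (Fin (n + 1)) k →ₐ[k] S).toRingHom.Finite)
    (g : MvPolynomial (Fin (n + 1)) k) (hg : g ≠ 0) (hgu : aeval u g = 0) (N : ℕ) (hN : 1 ≤ N) (B : ℕ)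
    (hB : g.totalDegree < B) :
    (aeval (fun i : Fin n => u i.castSucc - u (Fin.last n) ^ expo N B i) :
      MvPolynomial (Fin n) k →ₐ[k] S).toRingHom.Finite := by
  set w := fun i : Fin n => u i.castSucc - u (Fin.last n) ^ expo N B i with hw
  set φ : MvPolynomial (Fin n) k →ₐ[k] S := aeval w with hφ
  have hB' : 1 ≤ B := by omega
  have hsupp : g.support.Nonempty := support_nonempty.mpr hg
  obtain ⟨v₀, hv₀, hmax⟩ := Finset.exists_max_image g.support (fun v => wdeg N B v) hsupp
  have hlt : ∀ v ∈ g.support, ∀ i, v i < B := fun v hv i =>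
    lt_of_le_of_lt ((monomial_le_degreeOf i hv).trans (degreeOf_le_totalDegree g i)) hB
  choose M hM hdeg heq using subst_monomial (k := k) (n := n) N B hN hB'
  let D := wdeg N B v₀
  let G := subst N B g
  have hG : G = ∑ v ∈ g.support, Polynomial.C (C (coeff v g)) * M v (coeff v g) := by
    show subst N B g = _
    conv_lhs => rw [← g.support_sum_monomial_coeff, map_sum]
    exact Finset.sum_congr rfl fun v _ => heq v _
  have hcoeff : G.coeff D = C (coeff v₀ g) := by
    rw [hG, Polynomial.finset_sum_coeff, Finset.sum_eq_single v₀]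
    · rw [Polynomial.coeff_C_mul, show D = (M v₀ (coeff v₀ g)).natDegree from (hdeg _ _).symm,
        Polynomial.coeff_natDegree, (hM _ _).leadingCoeff, mul_one]
    · intro v hv hne
      rw [Polynomial.coeff_C_mul, Polynomial.coeff_eq_zero_of_natDegree_lt, mul_zero]
      rw [hdeg]
      refine lt_of_le_of_ne (hmax v hv) fun h => hne (Finsupp.ext (congrFun (wdeg_inj hN (hlt v hv) (hlt v₀ hv₀) h)))
    · exact fun h => absurd hv₀ h
  have hle : G.natDegree ≤ D := by
    rw [hG]
    exact Polynomial.natDegree_sum_le_of_forall_le _ _ fun v hv =>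
      (Polynomial.natDegree_C_mul_le _ _).trans ((hdeg v _).trans_le (hmax v hv))
  have hunit : IsUnit (G.coeff D) := by
    rw [hcoeff]
    exact (mem_support_iff.mp hv₀).isUnit.map C
  have hD : G.natDegree = D := le_antisymm hle (Polynomial.le_natDegree_of_ne_zero hunit.ne_zero)
  have heval : Polynomial.eval₂ φ.toRingHom (u (Fin.last n)) G = 0 := by
    have e : (Polynomial.eval₂RingHom φ.toRingHom (u (Fin.last n))).comp (subst (k := k) (n := n) N B).toRingHom =
        (aeval u : MvPolynomial (Fin (n + 1)) k →ₐ[k] S).toRingHom := by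
      refine MvPolynomial.ringHom_ext (fun r => ?_) fun i => ?_
      · simp [subst, φ]
      · induction i using Fin.lastCases with
        | last => simp [subst]
        | cast i => simp [subst, φ, hw]
    exact (RingHom.congr_fun e g).trans hgu
  algebraize [φ.toRingHom]
  have hint : IsIntegral (MvPolynomial (Fin n) k) (u (Fin.last n)) := by
    have hlc : IsUnit G.leadingCoeff := by rwa [Polynomial.leadingCoeff, hD]
    refine ⟨hlc.unit⁻¹.val • G, Polynomial.monic_of_isUnit_leadingCoeff_inv_smul hlc, ?_⟩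
    rw [Polynomial.smul_eq_C_mul, Polynomial.eval₂_mul]
    exact mul_eq_zero_of_right _ heval
  haveI : Algebra.FiniteType k S := by
    haveI : IsScalarTower k (MvPolynomial (Fin n) k) S := IsScalarTower.of_algebraMap_eq fun r => (φ.commutes r).symm
    letI := (aeval u : MvPolynomial (Fin (n + 1)) k →ₐ[k] S).toRingHom.toAlgebra
    haveI : Module.Finite (MvPolynomial (Fin (n + 1)) k) S := hu
    haveI : IsScalarTower k (MvPolynomial (Fin (n + 1)) k) S :=
      IsScalarTower.of_algebraMap_eq fun r => ((aeval u : MvPolynomial (Fin (n + 1)) k →ₐ[k] S).commutes r).symm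
    exact Algebra.FiniteType.trans (S := MvPolynomial (Fin (n + 1)) k) inferInstance inferInstance
  haveI : IsScalarTower k (MvPolynomial (Fin n) k) S := IsScalarTower.of_algebraMap_eq fun r => (φ.commutes r).symm
  have hall : ∀ i, u i ∈ integralClosure (MvPolynomial (Fin n) k) S := fun i => by
    induction i using Fin.lastCases with
    | last => exact hint
    | cast i =>
      rw [show u i.castSucc = algebraMap (MvPolynomial (Fin n) k) S (X i) + u (Fin.last n) ^ expo N B i by
        show _ = φ (X i) + _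
        rw [hφ, aeval_X, hw]
        ring]
      exact add_mem (Subalgebra.algebraMap_mem _ _) (pow_mem hint _)
  let C' : Subalgebra k S := (integralClosure (MvPolynomial (Fin n) k) S).restrictScalars k
  have hrange : ∀ p, aeval u p ∈ C' := fun p => by
    have hle : (aeval u : MvPolynomial (Fin (n + 1)) k →ₐ[k] S).range ≤ C' := by
      rw [← Algebra.adjoin_range_eq_range_aeval]
      exact Algebra.adjoin_le (Set.range_subset_iff.mpr hall)
    exact hle ⟨p, rfl⟩
  haveI : Algebra.IsIntegral (MvPolynomial (Fin n) k) S := ⟨fun x => by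
    letI := (aeval u : MvPolynomial (Fin (n + 1)) k →ₐ[k] S).toRingHom.toAlgebra
    haveI : Module.Finite (MvPolynomial (Fin (n + 1)) k) S := hu
    obtain ⟨p, hp, hpx⟩ := Algebra.IsIntegral.isIntegral (R := MvPolynomial (Fin (n + 1)) k) x
    let p' : Polynomial C' := p.map ((aeval u : MvPolynomial (Fin (n + 1)) k →ₐ[k] S).codRestrict C' hrange).toRingHom
    have hx : IsIntegral C' x := ⟨p', hp.map _, by
      rw [Polynomial.eval₂_map]
      exact hpx⟩
    letI : Algebra (integralClosure (MvPolynomial (Fin n) k) S) S := Subalgebra.toAlgebra _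
    exact isIntegral_trans (A := ↥(integralClosure (MvPolynomial (Fin n) k) S)) x hx⟩
  haveI : Algebra.FiniteType (MvPolynomial (Fin n) k) S := Algebra.FiniteType.of_restrictScalars_finiteType k _ S
  exact Algebra.IsIntegral.finite

open MvPolynomial in
theorem exists_relation {d : ℕ} (hdn : d ≤ n) (hS : ringKrullDim S ≤ (d : WithBot ℕ∞)) (u : Fin (n + 1) → S)
    (hu : (aeval u : MvPolynomial (Fin (n + 1)) k →ₐ[k] S).toRingHom.Finite) :
    ∃ g : MvPolynomial (Fin (n + 1)) k, g ≠ 0 ∧ aeval u g = 0 := by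
  by_contra hc
  push Not at hc
  have hinj : Function.Injective (aeval u : MvPolynomial (Fin (n + 1)) k →ₐ[k] S) :=
    (injective_iff_map_eq_zero _).mpr fun g hg => by_contra fun h => hc g h hg
  have h := Unibranch.ringKrullDim_eq_of_finite_inj _ hinj hu
  rw [h] at hS
  have : n + 1 ≤ d := by exact_mod_cast hS
  omega

end Field

section Relative

variable (V : Type u) [CommRing V] {R : Type u} [CommRing R] [Algebra V R] {d : ℕ}

open MvPolynomial in
/-- The fibre over `F` is finite over the given elements. -/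
def Fin' (F : Type u) [Field F] [Algebra V F] {σ : Type*} (v : σ → R) : Prop :=
  (aeval (fun i => (1 : F) ⊗ₜ[V] v i) : MvPolynomial σ F →ₐ[F] F ⊗[V] R).toRingHom.Finite

variable {V}

open MvPolynomial in
theorem fin'_of_adjoin (F : Type u) [Field F] [Algebra V F] {σ : Type*} (v : σ → R)
    (h : Algebra.adjoin V (Set.range v) = ⊤) : Fin' V F v := by
  refine RingHom.Finite.of_surjective _ fun y => ?_
  suffices y ∈ (aeval (fun i => (1 : F) ⊗ₜ[V] v i) : MvPolynomial σ F →ₐ[F] F ⊗[V] R).range from this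
  induction y using TensorProduct.induction_on with
  | zero => exact zero_mem _
  | add a b ha hb => exact add_mem ha hb
  | tmul c r =>
    rw [show c ⊗ₜ[V] r = c • ((1 : F) ⊗ₜ[V] r) by rw [TensorProduct.smul_tmul', smul_eq_mul, mul_one]]
    refine Subalgebra.smul_mem _ ?_ c
    have : Algebra.adjoin V (Set.range v) ≤ (((aeval (fun i => (1 : F) ⊗ₜ[V] v i) :
        MvPolynomial σ F →ₐ[F] F ⊗[V] R).range).restrictScalars V).comap Algebra.TensorProduct.includeRight :=
      Algebra.adjoin_le (Set.range_subset_iff.mpr fun i => ⟨X i, aeval_X _ i⟩)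
    exact this (h ▸ Algebra.mem_top)

open MvPolynomial in
theorem fin'_elim (F : Type u) [Field F] [Algebra V F] {m : ℕ}
    (hF : ringKrullDim (F ⊗[V] R) ≤ (d : WithBot ℕ∞)) (v : Fin (d + m + 1) → R) (hv : Fin' V F v)
    (N : ℕ) (hN : 1 ≤ N) :
    ∃ B₀, ∀ B ≥ B₀, Fin' V F (fun i : Fin (d + m) => v i.castSucc - v (Fin.last _) ^ expo N B i) := by
  obtain ⟨g, hg, hgu⟩ := exists_relation (Nat.le_add_right d m) hF _ hv
  refine ⟨g.totalDegree + 1, fun B hB => ?_⟩
  have h := finite_elim _ hv g hg hgu N hN B hB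
  have e : (fun i : Fin (d + m) => (1 : F) ⊗ₜ[V] (v i.castSucc - v (Fin.last _) ^ expo N B i)) =
      fun i : Fin (d + m) => (1 : F) ⊗ₜ[V] v i.castSucc - ((1 : F) ⊗ₜ[V] v (Fin.last _)) ^ expo N B i :=
    funext fun i => by rw [TensorProduct.tmul_sub, Algebra.TensorProduct.tmul_pow, one_pow]
  rw [Fin', e]
  exact h

theorem exists_shift (F₁ F₂ : Type u) [Field F₁] [Algebra V F₁] [Field F₂] [Algebra V F₂]
    (h₁ : ringKrullDim (F₁ ⊗[V] R) ≤ (d : WithBot ℕ∞)) (h₂ : ringKrullDim (F₂ ⊗[V] R) ≤ (d : WithBot ℕ∞))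
    (N : ℕ) (hN : 1 ≤ N) :
    ∀ (m : ℕ) (v : Fin (d + m) → R), Fin' V F₁ v → Fin' V F₂ v →
      ∃ y : Fin d → R, (∀ i, y i ∈ Subring.closure (Set.range fun r : R => r ^ N)) ∧
        Fin' V F₁ (fun i => v (Fin.castAdd m i) + y i) ∧ Fin' V F₂ (fun i => v (Fin.castAdd m i) + y i) := by
  intro m
  induction m with
  | zero =>
    intro v hv₁ hv₂
    refine ⟨0, fun i => zero_mem _, ?_, ?_⟩ <;> simpa
  | succ m ih =>
    intro v hv₁ hv₂
    obtain ⟨B₁, hB₁⟩ := fin'_elim F₁ h₁ v hv₁ N hN
    obtain ⟨B₂, hB₂⟩ := fin'_elim F₂ h₂ v hv₂ N hN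
    set B := max B₁ B₂
    obtain ⟨y, hy, hy₁, hy₂⟩ := ih _ (hB₁ B (le_max_left _ _)) (hB₂ B (le_max_right _ _))
    refine ⟨fun i => y i - v (Fin.last (d + m)) ^ expo N B (Fin.castAdd m i), fun i => sub_mem (hy i) ?_, ?_, ?_⟩
    · rw [expo, mul_comm, pow_mul]
      exact Subring.subset_closure ⟨_, rfl⟩
    · convert hy₁ using 2 with i
      rw [show (Fin.castAdd m i).castSucc = Fin.castAdd (m + 1) i from rfl]
      ring
    · convert hy₂ using 2 with i
      rw [show (Fin.castAdd m i).castSucc = Fin.castAdd (m + 1) i from rfl]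
      ring

theorem main [Algebra.FiniteType V R] (F₁ F₂ : Type u) [Field F₁] [Algebra V F₁] [Field F₂] [Algebra V F₂]
    (h₁ : ringKrullDim (F₁ ⊗[V] R) ≤ (d : WithBot ℕ∞)) (h₂ : ringKrullDim (F₂ ⊗[V] R) ≤ (d : WithBot ℕ∞))
    (x : Fin d → R) (N : ℕ) (hN : 1 ≤ N) :
    ∃ y : Fin d → R, (∀ i, y i ∈ Subring.closure (Set.range fun r : R => r ^ N)) ∧
      Fin' V F₁ (fun i => x i + y i) ∧ Fin' V F₂ (fun i => x i + y i) := by
  obtain ⟨s, hs⟩ := Algebra.FiniteType.out (R := V) (A := R)
  let v : Fin (d + s.card) → R := Fin.append x (fun j => (s.equivFin.symm j : R))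
  have hv : Algebra.adjoin V (Set.range v) = ⊤ := top_le_iff.mp (hs.ge.trans (Algebra.adjoin_mono fun r hr =>
    ⟨Fin.natAdd d (s.equivFin ⟨r, hr⟩), by simp [v]⟩))
  obtain ⟨y, hy, hy₁, hy₂⟩ := exists_shift F₁ F₂ h₁ h₂ N hN s.card v (fin'_of_adjoin F₁ v hv) (fin'_of_adjoin F₂ v hv)
  refine ⟨y, hy, ?_, ?_⟩
  · simpa [v] using hy₁
  · simpa [v] using hy₂

end Relative

end Groth.Agent.RelNoether.Powers
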